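import Mathlib

/-! `R[u, v]` over `R[u², v²]`. -/

set_option autoImplicit false
universe u

namespace Groth.Agent.KumFamH28

open MvPolynomial

variable {R : Type u} [CommRing R]

/-- `p(a, b) ↦ p(u², v²)`. -/
noncomputable abbrev ι2 : MvPolynomial (Fin 2) R →ₐ[R] MvPolynomial (Fin 2) R := expand 2

/-- The four components. -/
noncomputable def comb (p q r s : MvPolynomial (Fin 2) R) : MvPolynomial (Fin 2) R :=
  ι2 p + ι2 q * X 0 + ι2 r * X 1 + ι2 s * (X 0 * X 1)

/-- A component projection. -/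
noncomputable def proj (e0 e1 : ℕ) : MvPolynomial (Fin 2) R →ₗ[R] MvPolynomial (Fin 2) R :=
  (basisMonomials (Fin 2) R).constr R fun m =>
    if m 0 % 2 = e0 ∧ m 1 % 2 = e1 then monomial (Finsupp.equivFunOnFinite.symm fun i => m i / 2) 1 else 0

lemma proj_monomial (e0 e1 : ℕ) (m : Fin 2 →₀ ℕ) (c : R) :
    proj e0 e1 (monomial m c) = if m 0 % 2 = e0 ∧ m 1 % 2 = e1 then
      monomial (Finsupp.equivFunOnFinite.symm fun i => m i / 2) c else 0 := by
  have : (monomial m c : MvPolynomial (Fin 2) R) = c • basisMonomials (Fin 2) R m := by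
    simp [coe_basisMonomials, smul_monomial]
  rw [this, map_smul, proj, Module.Basis.constr_basis]
  split_ifs <;> simp [smul_monomial]

lemma proj_expand (e0 e1 f0 f1 : ℕ) (hf0 : f0 < 2) (hf1 : f1 < 2) (p : MvPolynomial (Fin 2) R) :
    proj e0 e1 (ι2 p * monomial (Finsupp.single 0 f0 + Finsupp.single 1 f1) 1)
      = if f0 = e0 ∧ f1 = e1 then p else 0 := by
  induction p using MvPolynomial.induction_on' with
  | add a b ha hb => rw [map_add, add_mul, map_add, ha, hb]; split_ifs <;> simp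
  | monomial m c =>
    rw [expand_monomial, monomial_mul, mul_one, proj_monomial]
    simp only [Finsupp.add_apply, Finsupp.smul_apply, smul_eq_mul, Finsupp.single_apply, Fin.isValue,
      Fin.zero_eq_one_iff, OfNat.ofNat_ne_one, if_false, if_true, Fin.one_eq_zero_iff, add_zero, zero_add,
      Nat.mul_add_mod, Nat.mod_eq_of_lt hf0, Nat.mod_eq_of_lt hf1]
    split_ifs
    · have e : (Finsupp.equivFunOnFinite.symm fun i : Fin 2 =>
          (2 • m + (Finsupp.single 0 f0 + Finsupp.single 1 f1 : Fin 2 →₀ ℕ) : Fin 2 →₀ ℕ) i / 2) = m := by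
        ext i
        match i with
        | 0 => simp; omega
        | 1 => simp; omega
      simp only [Finsupp.add_apply, Finsupp.smul_apply, smul_eq_mul, Finsupp.single_apply] at e
      rw [e]
    · rfl

lemma monX0 : (X 0 : MvPolynomial (Fin 2) R) = monomial (Finsupp.single 0 1 + Finsupp.single 1 0) 1 := by
  simp [X]
lemma monX1 : (X 1 : MvPolynomial (Fin 2) R) = monomial (Finsupp.single 0 0 + Finsupp.single 1 1) 1 := by
  simp [X]
lemma monX01 : (X 0 * X 1 : MvPolynomial (Fin 2) R) = monomial (Finsupp.single 0 1 + Finsupp.single 1 1) 1 := by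
  simp [X, monomial_mul]
lemma mon1 : (1 : MvPolynomial (Fin 2) R) = monomial (Finsupp.single 0 0 + Finsupp.single 1 0) 1 := by
  simp

theorem proj_comb (p q r s : MvPolynomial (Fin 2) R) :
    proj 0 0 (comb p q r s) = p ∧ proj 1 0 (comb p q r s) = q ∧
      proj 0 1 (comb p q r s) = r ∧ proj 1 1 (comb p q r s) = s := by
  have e : comb p q r s = ι2 p * monomial (Finsupp.single 0 0 + Finsupp.single 1 0) 1
      + ι2 q * monomial (Finsupp.single 0 1 + Finsupp.single 1 0) 1
      + ι2 r * monomial (Finsupp.single 0 0 + Finsupp.single 1 1) 1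
      + ι2 s * monomial (Finsupp.single 0 1 + Finsupp.single 1 1) 1 := by
    rw [← mon1, ← monX0, ← monX1, ← monX01, mul_one]; rfl
  refine ⟨?_, ?_, ?_, ?_⟩ <;>
    (rw [e, map_add, map_add, map_add, proj_expand _ _ _ _ (by norm_num) (by norm_num),
      proj_expand _ _ _ _ (by norm_num) (by norm_num), proj_expand _ _ _ _ (by norm_num) (by norm_num),
      proj_expand _ _ _ _ (by norm_num) (by norm_num)]
     simp)

theorem comb_eq_zero {p q r s : MvPolynomial (Fin 2) R} (h : comb p q r s = 0) :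
    p = 0 ∧ q = 0 ∧ r = 0 ∧ s = 0 := by
  obtain ⟨h1, h2, h3, h4⟩ := proj_comb p q r s
  rw [h, map_zero] at h1 h2 h3 h4
  exact ⟨h1.symm, h2.symm, h3.symm, h4.symm⟩

theorem exists_comb (f : MvPolynomial (Fin 2) R) : ∃ p q r s, f = comb p q r s := by
  induction f using MvPolynomial.induction_on with
  | C a => exact ⟨C a, 0, 0, 0, by simp [comb]⟩
  | add f g hf hg =>
    obtain ⟨p, q, r, s, rfl⟩ := hf; obtain ⟨p', q', r', s', rfl⟩ := hg
    exact ⟨p + p', q + q', r + r', s + s', by simp only [comb, map_add]; ring⟩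
  | mul_X f i hf =>
    obtain ⟨p, q, r, s, rfl⟩ := hf
    match i with
    | 0 => exact ⟨X 0 * q, p, X 0 * s, r, by simp [comb]; ring⟩
    | 1 => exact ⟨X 1 * r, X 1 * s, p, q, by simp [comb]; ring⟩

/-- Elements of `R[u², u³, v², v³]`. -/
theorem exists_comb_of_mem {f : MvPolynomial (Fin 2) R}
    (hf : f ∈ Algebra.adjoin R ({X 0 ^ 2, X 0 ^ 3, X 1 ^ 2, X 1 ^ 3} : Set (MvPolynomial (Fin 2) R))) :
    ∃ p q r s, f = comb p (X 0 * q) (X 1 * r) (X 0 * X 1 * s) := by
  induction hf using Algebra.adjoin_induction with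
  | mem x hx =>
    rcases hx with rfl | rfl | rfl | rfl
    · exact ⟨X 0, 0, 0, 0, by simp [comb]⟩
    · exact ⟨0, 1, 0, 0, by simp [comb]; ring⟩
    · exact ⟨X 1, 0, 0, 0, by simp [comb]⟩
    · exact ⟨0, 0, 1, 0, by simp [comb]; ring⟩
  | algebraMap r => exact ⟨C r, 0, 0, 0, by simp [comb, algebraMap_eq]⟩
  | add x y _ _ hx hy =>
    obtain ⟨p, q, r, s, rfl⟩ := hx; obtain ⟨p', q', r', s', rfl⟩ := hy
    exact ⟨p + p', q + q', r + r', s + s', by simp only [comb, map_add, map_mul]; ring⟩
  | mul x y _ _ hx hy =>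
    obtain ⟨p, q, r, s, rfl⟩ := hx; obtain ⟨p', q', r', s', rfl⟩ := hy
    exact ⟨p * p' + X 0 ^ 3 * q * q' + X 1 ^ 3 * r * r' + X 0 ^ 3 * X 1 ^ 3 * s * s',
      p * q' + q * p' + X 1 ^ 3 * (r * s' + s * r'),
      p * r' + r * p' + X 0 ^ 3 * (q * s' + s * q'),
      p * s' + s * p' + q * r' + r * q', by simp [comb]; ring⟩

theorem derivation_expand [CharP R 2] (D : Derivation R (MvPolynomial (Fin 2) R) (MvPolynomial (Fin 2) R))
    (p : MvPolynomial (Fin 2) R) : D (ι2 p) = 0 := by
  induction p using MvPolynomial.induction_on with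
  | C a => rw [expand_C]; exact D.map_algebraMap a
  | add f g hf hg => rw [map_add, map_add, hf, hg, add_zero]
  | mul_X f i hf =>
    have h2 : (2 : MvPolynomial (Fin 2) R) = 0 := by
      have h : (2 : R) = 0 := CharTwo.two_eq_zero
      simpa [map_ofNat] using congrArg (C : R →+* MvPolynomial (Fin 2) R) h
    rw [map_mul, expand_X, Derivation.leibniz, hf, Derivation.leibniz_pow]
    simp only [smul_eq_mul, nsmul_eq_mul, Nat.cast_ofNat, h2, zero_mul, mul_zero, smul_zero, add_zero]

/-- The derivation on the components. -/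
theorem derivation_comb [CharP R 2] (D : Derivation R (MvPolynomial (Fin 2) R) (MvPolynomial (Fin 2) R))
    (p q r s : MvPolynomial (Fin 2) R) :
    D (comb p q r s) = ι2 q * D (X 0) + ι2 r * D (X 1) + ι2 s * (X 0 * D (X 1) + X 1 * D (X 0)) := by
  simp only [comb, map_add, Derivation.leibniz, derivation_expand, smul_eq_mul, mul_zero, zero_add, add_zero]

/-- Kernel of a map `a ↦ u², b ↦ v², c ↦ g` with `g` having odd part a non-zero-divisor. -/
theorem ker_aeval (g : MvPolynomial (Fin 2) R) (gp gq gr gs : MvPolynomial (Fin 2) R)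
    (hg : g = comb gp gq gr gs) (hgs : ∀ x, gs * x = 0 → x = 0) (G : MvPolynomial (Fin 2) R)
    (hsq : g ^ 2 = ι2 G) :
    RingHom.ker (aeval (R := R) (S₁ := MvPolynomial (Fin 2) R) ![X 0 ^ 2, X 1 ^ 2, g])
      = Ideal.span {(X 2 ^ 2 - rename Fin.castSucc G : MvPolynomial (Fin 3) R)} := by
  set φ := aeval (R := R) (S₁ := MvPolynomial (Fin 2) R) ![X 0 ^ 2, X 1 ^ 2, g]
  set rel : MvPolynomial (Fin 3) R := X 2 ^ 2 - rename Fin.castSucc G
  have hφ : ∀ p : MvPolynomial (Fin 2) R, φ (rename Fin.castSucc p) = ι2 p := by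
    intro p
    induction p using MvPolynomial.induction_on with
    | C a => simp [φ]
    | add f g hf hg => simp [hf, hg]
    | mul_X f i hf =>
      rw [map_mul, map_mul, map_mul, hf, rename_X, expand_X]
      congr 1
      match i with
      | 0 => simp [φ]
      | 1 => simp [φ]
  have hrel : φ rel = 0 := by
    simp only [rel, map_sub, map_pow, hφ]
    rw [← hsq]; simp [φ]
  refine le_antisymm (fun f hf => ?_) (Ideal.span_le.2 fun x hx => by
    rw [Set.mem_singleton_iff] at hx; subst hx; exact hrel)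
  have hnf : ∀ f : MvPolynomial (Fin 3) R, ∃ p0 p1 : MvPolynomial (Fin 2) R,
      f - (rename Fin.castSucc p0 + rename Fin.castSucc p1 * X 2) ∈ Ideal.span {rel} := by
    intro f
    induction f using MvPolynomial.induction_on with
    | C a => exact ⟨C a, 0, by simp⟩
    | add f g hf hg =>
      obtain ⟨p0, p1, h⟩ := hf; obtain ⟨q0, q1, h'⟩ := hg
      refine ⟨p0 + q0, p1 + q1, ?_⟩
      convert add_mem h h' using 1
      simp only [map_add]; ring
    | mul_X f i hf =>
      obtain ⟨p0, p1, h⟩ := hf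
      have h' := Ideal.mul_mem_right (X i) _ h
      match i with
      | 0 =>
        refine ⟨p0 * X 0, p1 * X 0, ?_⟩
        convert h' using 1
        simp only [map_mul, rename_X, Fin.castSucc_zero]; ring
      | 1 =>
        refine ⟨p0 * X 1, p1 * X 1, ?_⟩
        convert h' using 1
        simp only [map_mul, rename_X, Fin.castSucc_one]; ring
      | 2 =>
        refine ⟨p1 * G, p0, ?_⟩
        convert add_mem h' (Ideal.mul_mem_left _ (rename Fin.castSucc p1) (Ideal.subset_span (Set.mem_singleton rel))) using 1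
        simp only [map_mul, rel]; ring
  obtain ⟨p0, p1, h⟩ := hnf f
  have h0 : φ (f - (rename Fin.castSucc p0 + rename Fin.castSucc p1 * X 2)) = 0 := by
    obtain ⟨c, hc⟩ := Ideal.mem_span_singleton'.1 h
    rw [← hc, map_mul, hrel, mul_zero]
  rw [RingHom.mem_ker] at hf
  rw [map_sub, hf, zero_sub, neg_eq_zero, map_add, map_mul, hφ, hφ] at h0
  have hX2 : φ (X 2) = g := by simp [φ]
  rw [hX2, hg] at h0
  have h1 : comb (p0 + p1 * gp) (p1 * gq) (p1 * gr) (p1 * gs) = 0 := by
    rw [← h0]; simp only [comb, map_add, map_mul]; ring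
  obtain ⟨e0, -, -, e3⟩ := comb_eq_zero h1
  have hp1 : p1 = 0 := hgs p1 (by rw [mul_comm]; exact e3)
  subst hp1
  rw [zero_mul, add_zero] at e0
  subst e0
  simpa using h

theorem unit_mul_eq_zero {c : R} (hc : IsUnit c) (x : MvPolynomial (Fin 2) R) (h : C c * x = 0) : x = 0 := by
  obtain ⟨d, hd⟩ := hc.exists_left_inv
  have := congrArg (C d * ·) h
  simpa [← mul_assoc, ← map_mul, hd] using this

theorem X_mul_eq_zero (i : Fin 2) (x : MvPolynomial (Fin 2) R) (h : X i * x = 0) : x = 0 :=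
  isRegular_X.1 (h.trans (mul_zero (X i)).symm)

end Groth.Agent.KumFamH28
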